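import Groth.Agent.SymTenDet.Gen
import Groth.Prelude.Def_PolLaw2
import Groth.Prelude.Def_W4c5normfunctorschNorm
import Mathlib.LinearAlgebra.Determinant
import Mathlib.LinearAlgebra.Dimension.Free
import Mathlib.RingTheory.Norm.Basic

/-!
Symmetric tensors act on the top exterior power through the norm.
-/

universe u

open scoped TensorProduct
open SymTen

namespace Groth.Agent.SymTenDet

variable {R : Type u} [CommRing R] {R' : Type u} [CommRing R'] [Algebra R R'] {d : ℕ}

theorem act_tprod (a p : Fin d → R') :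
    tpowAct R R' R' d (PiTensorProduct.tprod R a) (PiTensorProduct.tprod R p)
      = PiTensorProduct.tprod R (fun i => a i * p i) := by
  simp [tpowAct, PiTensorProduct.map_tprod]

theorem act_one : tpowAct R R' R' d 1 = LinearMap.id := by
  refine PiTensorProduct.ext (MultilinearMap.ext fun p => ?_)
  show tpowAct R R' R' d 1 (PiTensorProduct.tprod R p) = PiTensorProduct.tprod R p
  rw [PiTensorProduct.one_def, act_tprod]
  simp

theorem act_mul (s t : ⨂[R] _ : Fin d, R') :
    tpowAct R R' R' d (s * t) = (tpowAct R R' R' d s).comp (tpowAct R R' R' d t) := by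
  induction s using PiTensorProduct.induction_on with
  | smul_tprod r a =>
    induction t using PiTensorProduct.induction_on with
    | smul_tprod r' a' =>
      refine PiTensorProduct.ext (MultilinearMap.ext fun p => ?_)
      simp [PiTensorProduct.tprod_mul_tprod, act_tprod, smul_smul, mul_comm r r', mul_assoc]
    | add x y hx hy => simp only [mul_add, map_add, LinearMap.comp_add, hx, hy]
  | add x y hx hy => simp only [add_mul, map_add, LinearMap.add_comp, hx, hy]

variable (b : Module.Basis (Fin d) R R')

/-- the determinant functional on the tensor power -/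
noncomputable def detF : (⨂[R] _ : Fin d, R') →ₗ[R] R :=
  PiTensorProduct.lift b.det.toMultilinearMap

theorem detF_tprod (p : Fin d → R') : detF b (PiTensorProduct.tprod R p) = b.det p := by
  simp [detF]

/-- the universal alternating map -/
noncomputable def altQ : R' [⋀^Fin d]→ₗ[R] ((⨂[R] _ : Fin d, R') ⧸ altSpan R R' d) :=
  { (altSpan R R' d).mkQ.compMultilinearMap (PiTensorProduct.tprod R) with
    map_eq_zero_of_eq' := fun v i j h hij =>
      (Submodule.Quotient.mk_eq_zero _).mpr (Submodule.subset_span ⟨v, i, j, hij, h, rfl⟩) }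

theorem sub_detF_mem (x : ⨂[R] _ : Fin d, R') :
    x - detF b x • PiTensorProduct.tprod R ⇑b ∈ altSpan R R' d := by
  have h : altQ (R := R) (R' := R') (d := d)
      = (LinearMap.toSpanSingleton R _ (altQ (R := R) (R' := R') (d := d) ⇑b)).compAlternatingMap b.det := by
    refine Module.Basis.ext_alternating b fun v hv => ?_
    let σ : Equiv.Perm (Fin d) := Equiv.ofBijective v (Finite.injective_iff_bijective.mp hv)
    show altQ (R := R) (R' := R') (d := d) (⇑b ∘ ⇑σ) = LinearMap.compAlternatingMap _ b.det (⇑b ∘ ⇑σ)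
    rw [AlternatingMap.map_perm, AlternatingMap.map_perm]
    congr 1
    simp [Module.Basis.det_self]
  rw [← Submodule.Quotient.mk_eq_zero, Submodule.Quotient.mk_sub, Submodule.Quotient.mk_smul, sub_eq_zero]
  induction x using PiTensorProduct.induction_on with
  | smul_tprod r p =>
    rw [Submodule.Quotient.mk_smul, map_smul, smul_eq_mul, mul_smul, detF_tprod]
    exact congrArg (r • ·) (DFunLike.congr_fun h p)
  | add x y hx hy => rw [Submodule.Quotient.mk_add, map_add, add_smul, hx, hy]

theorem det_baseChange (S : Type u) [CommRing S] [Algebra R S] (q : Fin d → R') :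
    (Algebra.TensorProduct.basis S b).det (fun j => (1 : S) ⊗ₜ[R] q j) = algebraMap R S (b.det q) := by
  rw [Module.Basis.det_apply, Module.Basis.det_apply, RingHom.map_det]
  congr 1
  ext i j
  simp [Module.Basis.toMatrix_apply, Algebra.TensorProduct.basis_repr_tmul, Finsupp.mapRange_apply]

theorem prod_tmul' {S T : Type u} [CommRing S] [Algebra R S] [CommRing T] [Algebra R T] {κ : Type*}
    (F : Finset κ) (s : κ → S) (t : κ → T) :
    ∏ j ∈ F, s j ⊗ₜ[R] t j = (∏ j ∈ F, s j) ⊗ₜ[R] (∏ j ∈ F, t j) := by
  classical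
  induction F using Finset.induction_on with
  | empty => rfl
  | insert a F ha ih => rw [Finset.prod_insert ha, Finset.prod_insert ha, Finset.prod_insert ha, ih,
      Algebra.TensorProduct.tmul_mul_tmul]

theorem tpowLaw_gen {ι : Type u} [Fintype ι] [DecidableEq ι] (b' : Module.Basis ι R R') :
    (tpowLaw R R' d).law.toFun' (MvPolynomial ι R) (gen b' (MvPolynomial ι R) MvPolynomial.X)
      = ∑ k : Fin d → ι, (∏ j, (MvPolynomial.X (k j) : MvPolynomial ι R)) ⊗ₜ[R]
          PiTensorProduct.tprod R (fun j => b' (k j)) := by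
  rw [tpowLaw, PolLaw.MulLaw.prodMap_toFun']
  simp only [gen, map_sum, Algebra.TensorProduct.map_tmul, AlgHom.id_apply]
  rw [Fintype.prod_sum]
  refine Finset.sum_congr rfl fun k _ => ?_
  rw [prod_tmul']
  congr 1
  simp only [PiTensorProduct.singleAlgHom_apply, MonoidHom.mulSingle_apply]
  rw [← PiTensorProduct.tprod_prod]
  exact congrArg _ (Finset.univ_prod_mulSingle (fun j : Fin d => b' (k j)))

variable [Module.Free R R'] [Module.Finite R R'] (hd : Module.finrank R R' = d)
  {C : Type u} [CommRing C] [Algebra R C] (γ : PolLaw.MulLaw R R' C d) (φ : C →ₐ[R] (⨂[R] _ : Fin d, R'))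
  (π : C →ₐ[R] R) (hφ : PolLaw.MulLaw.postcomp φ γ = SymTen.tpowLaw R R' d)
  (hπ : PolLaw.MulLaw.postcomp π γ = PolLaw.normLaw R R' d hd)

include hφ hπ in
theorem coef_spec {ι : Type u} [Fintype ι] [DecidableEq ι] (b' : Module.Basis ι R R') (k : ι →₀ ℕ)
    (p : Fin d → R') :
    detF b (tpowAct R R' R' d (φ (coef γ b' k)) (PiTensorProduct.tprod R p))
      = π (coef γ b' k) * b.det p := by
  let S := MvPolynomial ι R
  let w := gen b' S MvPolynomial.X
  let Ψ : (⨂[R] _ : Fin d, R') →ₗ[R] R :=
    (detF b).comp ((tpowAct R R' R' d).flip (PiTensorProduct.tprod R p))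
  let g₁ : C →ₗ[R] R := Ψ.comp φ.toLinearMap
  let g₂ : C →ₗ[R] R := b.det p • π.toLinearMap
  have h1 : φ.toLinearMap.lTensor S (genVal γ b') = (tpowLaw R R' d).law.toFun' S w :=
    congrArg (fun L : PolLaw.MulLaw R R' (⨂[R] _ : Fin d, R') d => L.law.toFun' S w) hφ
  have h2 : π.toLinearMap.lTensor S (genVal γ b') = (Algebra.norm S w) ⊗ₜ[R] (1 : R) :=
    (congrArg (fun L : PolLaw.MulLaw R R' R d => L.law.toFun' S w) hπ).trans
      (PolLaw.normLaw_apply R R' d hd S w)
  have hdet : ∑ l : Fin d → ι, (∏ j, (MvPolynomial.X (l j) : S)) * algebraMap R S (b.det fun j => b' (l j) * p j)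
      = Algebra.norm S w * algebraMap R S (b.det p) := by
    let bS := Algebra.TensorProduct.basis S b
    have hmul : ∀ j, Algebra.lmul S (S ⊗[R] R') w ((1 : S) ⊗ₜ[R] p j)
        = ∑ i, (MvPolynomial.X i : S) • ((1 : S) ⊗ₜ[R] (b' i * p j)) := by
      intro j
      show w * _ = _
      simp only [w, gen, Finset.sum_mul, Algebra.TensorProduct.tmul_mul_tmul, TensorProduct.smul_tmul',
        smul_eq_mul, mul_one]
    rw [← det_baseChange b S p, Algebra.norm_apply, ← Module.Basis.det_comp bS]
    rw [show (⇑(Algebra.lmul S (S ⊗[R] R') w) ∘ fun j => (1 : S) ⊗ₜ[R] p j)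
      = fun j => ∑ i, (MvPolynomial.X i : S) • ((1 : S) ⊗ₜ[R] (b' i * p j)) from funext hmul]
    refine ((MultilinearMap.map_sum bS.det.toMultilinearMap
      fun (j : Fin d) (i : ι) => (MvPolynomial.X i : S) • ((1 : S) ⊗ₜ[R] (b' i * p j))).trans ?_).symm
    refine Finset.sum_congr rfl fun l _ => ?_
    rw [MultilinearMap.map_smul_univ, AlternatingMap.coe_multilinearMap, det_baseChange, smul_eq_mul]
  have hg : g₁.lTensor S (genVal γ b') = g₂.lTensor S (genVal γ b') := by
    rw [LinearMap.lTensor_comp, LinearMap.comp_apply, h1, tpowLaw_gen, map_sum, LinearMap.lTensor_smul,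
      LinearMap.smul_apply, h2]
    apply (TensorProduct.rid R S).injective
    rw [map_sum, map_smul, TensorProduct.rid_tmul, one_smul, Algebra.smul_def, mul_comm, ← hdet]
    refine Finset.sum_congr rfl fun l _ => ?_
    rw [LinearMap.lTensor_tmul, TensorProduct.rid_tmul, Algebra.smul_def, mul_comm]
    congr 2
    simp [Ψ, act_tprod, detF_tprod]
  have hnat : ∀ (g : C →ₗ[R] R) (z : S ⊗[R] C),
      TensorProduct.equivFinsuppOfBasisLeft (MvPolynomial.basisMonomials ι R) (g.lTensor S z) k
        = g (TensorProduct.equivFinsuppOfBasisLeft (MvPolynomial.basisMonomials ι R) z k) := by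
    intro g z
    induction z using TensorProduct.induction_on with
    | zero => simp
    | tmul s c => simp [TensorProduct.equivFinsuppOfBasisLeft_apply_tmul, Finsupp.mapRange_apply]
    | add x y hx hy => simp only [map_add, Finsupp.add_apply, hx, hy]
  have := congrArg (fun z => TensorProduct.equivFinsuppOfBasisLeft (MvPolynomial.basisMonomials ι R) z k) hg
  simp only [hnat] at this
  rw [mul_comm]
  exact this

include b hφ hπ in
theorem act_sub_smul_mem (hγ : PolLaw.IsGammaD γ) (c : C) (x : ⨂[R] _ : Fin d, R') :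
    tpowAct R R' R' d (φ c) x - π c • x ∈ altSpan R R' d := by
  classical
  let A : Subalgebra R C :=
  { carrier := {c | ∀ x, detF b (tpowAct R R' R' d (φ c) x) = π c * detF b x}
    mul_mem' := fun {a a'} ha ha' x => by
      rw [map_mul, act_mul, LinearMap.comp_apply, ha, ha', map_mul, mul_assoc]
    one_mem' := fun x => by rw [map_one φ, map_one π, act_one, LinearMap.id_apply, one_mul]
    add_mem' := fun {a a'} ha ha' x => by
      rw [map_add, map_add, LinearMap.add_apply, map_add, ha, ha', map_add, add_mul]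
    zero_mem' := fun x => by simp
    algebraMap_mem' := fun r x => by
      rw [AlgHom.commutes, AlgHom.commutes, Algebra.algebraMap_eq_smul_one, map_smul, act_one,
        LinearMap.smul_apply, LinearMap.id_apply, map_smul, smul_eq_mul, Algebra.algebraMap_self_apply] }
  have hA : c ∈ A := by
    refine (show coefAlg γ (b.reindex Equiv.ulift.{u}.symm) ≤ A from ?_) ?_
    · refine Algebra.adjoin_le ?_
      rintro _ ⟨k, rfl⟩ x
      induction x using PiTensorProduct.induction_on with
      | smul_tprod r p =>
        rw [map_smul, map_smul, map_smul, coef_spec b hd γ φ π hφ hπ, detF_tprod, smul_eq_mul, smul_eq_mul]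
        ring
      | add x y hx hy => simp only [map_add, hx, hy, mul_add]
    · rw [coefAlg_eq_top γ _ hγ]
      exact Algebra.mem_top
  have h := sub_detF_mem b (tpowAct R R' R' d (φ c) x - π c • x)
  rw [map_sub, map_smul, hA x, smul_eq_mul, sub_self, zero_smul, sub_zero] at h
  exact h

include hφ hπ in
theorem main (hγ : PolLaw.IsGammaD γ) (c : C) (x : ⨂[R] _ : Fin d, R') :
    tpowAct R R' R' d (φ c) x - π c • x ∈ altSpan R R' d := by
  rcases subsingleton_or_nontrivial R with _ | _
  · have := Module.subsingleton R (⨂[R] _ : Fin d, R')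
    rw [Subsingleton.elim (tpowAct R R' R' d (φ c) x - π c • x) 0]
    exact zero_mem _
  · exact act_sub_smul_mem (Module.finBasisOfFinrankEq R R' hd) hd γ φ π hφ hπ hγ c x

end Groth.Agent.SymTenDet
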