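import Groth.Prelude.Def_PolLaw2
import Mathlib.RingTheory.Flat.Basic
import Mathlib.LinearAlgebra.TensorProduct.Basis
import Mathlib.RingTheory.MvPolynomial.Basic

/-!
A degree-`d` divided power algebra of a finite free algebra is generated by the coefficients of the value of
its universal law at the generic element.
-/

universe u

open scoped TensorProduct

namespace Groth.Agent.SymTenDet

variable {R : Type u} [CommRing R] {B : Type u} [CommRing B] [Algebra R B]

section Generic

variable {ι : Type u} [Fintype ι] (b : Module.Basis ι R B)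

/-- the generic element -/
noncomputable def gen (S : Type u) [CommSemiring S] [Algebra R S] (s : ι → S) : S ⊗[R] B :=
  ∑ i, s i ⊗ₜ[R] b i

theorem map_gen {S S' : Type u} [CommSemiring S] [Algebra R S] [CommSemiring S'] [Algebra R S']
    (φ : S →ₐ[R] S') (s : ι → S) : φ.toLinearMap.rTensor B (gen b S s) = gen b S' (fun i => φ (s i)) := by
  simp [gen]

/-- the coordinates of an element -/
noncomputable def coords {S : Type u} [CommSemiring S] [Algebra R S] (x : S ⊗[R] B) : ι → S :=
  fun i => (Algebra.TensorProduct.basis S b).repr x i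

theorem gen_coords {S : Type u} [CommSemiring S] [Algebra R S] (x : S ⊗[R] B) : gen b S (coords b x) = x := by
  conv_rhs => rw [← (Algebra.TensorProduct.basis S b).sum_repr x]
  refine Finset.sum_congr rfl fun i _ => ?_
  rw [Algebra.TensorProduct.basis_apply, TensorProduct.smul_tmul', smul_eq_mul, mul_one]
  rfl

theorem coords_map {S S' : Type u} [CommSemiring S] [Algebra R S] [CommSemiring S'] [Algebra R S']
    (φ : S →ₐ[R] S') (x : S ⊗[R] B) (i : ι) : coords b (φ.toLinearMap.rTensor B x) i = φ (coords b x i) := by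
  induction x using TensorProduct.induction_on with
  | zero => simp [coords]
  | tmul s m =>
    simp [coords, LinearMap.rTensor_tmul, Algebra.TensorProduct.basis_repr_tmul, Finsupp.smul_apply,
      Finsupp.mapRange_apply]
  | add x y hx hy =>
    simp only [coords, map_add, Finsupp.add_apply] at hx hy ⊢
    rw [hx, hy]

/-- classifying map of an element -/
noncomputable def chi {S : Type u} [CommSemiring S] [Algebra R S] (x : S ⊗[R] B) : MvPolynomial ι R →ₐ[R] S :=
  MvPolynomial.aeval (coords b x)

theorem chi_gen {S : Type u} [CommSemiring S] [Algebra R S] (x : S ⊗[R] B) :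
    (chi b x).toLinearMap.rTensor B (gen b (MvPolynomial ι R) MvPolynomial.X) = x := by
  rw [map_gen]
  conv_rhs => rw [← gen_coords b x]
  congr 1
  funext i
  exact MvPolynomial.aeval_X _ i

end Generic

section Law

variable {C : Type u} [CommRing C] [Algebra R C] {d : ℕ} (γ : PolLaw.MulLaw R B C d)

theorem law_compat {S S' : Type u} [CommSemiring S] [Algebra R S] [CommSemiring S'] [Algebra R S']
    (φ : S →ₐ[R] S') (x : S ⊗[R] B) :
    φ.toLinearMap.rTensor C (γ.law.toFun' S x) = γ.law.toFun' S' (φ.toLinearMap.rTensor B x) :=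
  congrFun (γ.law.isCompat' φ) x

theorem rTensor_lTensor {N N' : Type u} [AddCommGroup N] [Module R N] [AddCommGroup N'] [Module R N']
    {S S' : Type u} [CommSemiring S] [Algebra R S] [CommSemiring S'] [Algebra R S']
    (φ : S →ₐ[R] S') (g : N →ₗ[R] N') (z : S ⊗[R] N) :
    φ.toLinearMap.rTensor N' (g.lTensor S z) = g.lTensor S' (φ.toLinearMap.rTensor N z) := by
  rw [← LinearMap.comp_apply, LinearMap.rTensor_comp_lTensor, ← LinearMap.lTensor_comp_rTensor, LinearMap.comp_apply]

theorem rTensor_smul {N : Type u} [CommRing N] [Algebra R N]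
    {S S' : Type u} [CommSemiring S] [Algebra R S] [CommSemiring S'] [Algebra R S']
    (φ : S →ₐ[R] S') (s : S) (z : S ⊗[R] N) :
    φ.toLinearMap.rTensor N (s • z) = φ s • φ.toLinearMap.rTensor N z := by
  induction z using TensorProduct.induction_on with
  | zero => simp
  | tmul t n => simp [TensorProduct.smul_tmul']
  | add x y hx hy => simp only [smul_add, map_add, hx, hy]

variable {ι : Type u} [Fintype ι] [DecidableEq ι] (b : Module.Basis ι R B)

/-- the value at the generic element -/
noncomputable def genVal : MvPolynomial ι R ⊗[R] C :=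
  γ.law.toFun' (MvPolynomial ι R) (gen b (MvPolynomial ι R) MvPolynomial.X)

/-- its coefficients -/
noncomputable def coef (k : ι →₀ ℕ) : C :=
  TensorProduct.equivFinsuppOfBasisLeft (MvPolynomial.basisMonomials ι R) (genVal γ b) k

/-- the algebra they generate -/
noncomputable def coefAlg : Subalgebra R C := Algebra.adjoin R (Set.range (coef γ b))

theorem exists_genVal : ∃ z : MvPolynomial ι R ⊗[R] coefAlg γ b,
    (coefAlg γ b).val.toLinearMap.lTensor (MvPolynomial ι R) z = genVal γ b := by
  let e := TensorProduct.equivFinsuppOfBasisLeft (N := C) (MvPolynomial.basisMonomials ι R)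
  refine ⟨(e (genVal γ b)).sum fun k _ => MvPolynomial.basisMonomials ι R k ⊗ₜ[R]
    (⟨coef γ b k, Algebra.subset_adjoin ⟨k, rfl⟩⟩ : coefAlg γ b), ?_⟩
  rw [map_finsuppSum]
  conv_rhs => rw [← e.symm_apply_apply (genVal γ b), ← (e (genVal γ b)).sum_single, map_finsuppSum]
  refine Finsupp.sum_congr fun k _ => ?_
  rw [LinearMap.lTensor_tmul]
  refine ((LinearEquiv.eq_symm_apply e).mpr ?_)
  rw [TensorProduct.equivFinsuppOfBasisLeft_apply_tmul, Module.Basis.repr_self, Finsupp.mapRange_single, one_smul]
  rfl

/-- the law with values in the algebra generated by the coefficients -/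
noncomputable def lawFun (S : Type u) [CommSemiring S] [Algebra R S] (x : S ⊗[R] B) : S ⊗[R] coefAlg γ b :=
  (chi b x).toLinearMap.rTensor (coefAlg γ b) (exists_genVal γ b).choose

theorem incl_lawFun (S : Type u) [CommSemiring S] [Algebra R S] (x : S ⊗[R] B) :
    (coefAlg γ b).val.toLinearMap.lTensor S (lawFun γ b S x) = γ.law.toFun' S x := by
  rw [lawFun, ← rTensor_lTensor (chi b x), (exists_genVal γ b).choose_spec, genVal, law_compat, chi_gen]

theorem lawFun_compat {S S' : Type u} [CommSemiring S] [Algebra R S] [CommSemiring S'] [Algebra R S']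
    (φ : S →ₐ[R] S') (x : S ⊗[R] B) :
    φ.toLinearMap.rTensor (coefAlg γ b) (lawFun γ b S x) = lawFun γ b S' (φ.toLinearMap.rTensor B x) := by
  rw [lawFun, lawFun, ← LinearMap.comp_apply, ← LinearMap.rTensor_comp, ← AlgHom.comp_toLinearMap]
  congr 3
  refine MvPolynomial.algHom_ext fun i => ?_
  rw [AlgHom.comp_apply, chi, chi, MvPolynomial.aeval_X, MvPolynomial.aeval_X, coords_map]

theorem incl_injective (τ : Type u) :
    Function.Injective ((coefAlg γ b).val.toLinearMap.lTensor (MvPolynomial τ R)) :=
  Module.Flat.lTensor_preserves_injective_linearMap (coefAlg γ b).val.toLinearMap fun _ _ h => Subtype.ext h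

theorem lawFun_mul (S : Type u) [CommSemiring S] [Algebra R S] (x y : S ⊗[R] B) :
    lawFun γ b S (x * y) = lawFun γ b S x * lawFun γ b S y := by
  let S₁ := MvPolynomial (ι ⊕ ι) R
  let x₁ : S₁ ⊗[R] B := gen b S₁ fun i => MvPolynomial.X (Sum.inl i)
  let y₁ : S₁ ⊗[R] B := gen b S₁ fun i => MvPolynomial.X (Sum.inr i)
  let ψ : S₁ →ₐ[R] S := MvPolynomial.aeval (Sum.elim (coords b x) (coords b y))
  have hx : ψ.toLinearMap.rTensor B x₁ = x := by
    rw [map_gen]
    exact (congrArg (gen b S) (funext fun i => MvPolynomial.aeval_X _ _)).trans (gen_coords b x)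
  have hy : ψ.toLinearMap.rTensor B y₁ = y := by
    rw [map_gen]
    exact (congrArg (gen b S) (funext fun i => MvPolynomial.aeval_X _ _)).trans (gen_coords b y)
  have key : lawFun γ b S₁ (x₁ * y₁) = lawFun γ b S₁ x₁ * lawFun γ b S₁ y₁ := by
    apply incl_injective γ b (ι ⊕ ι)
    rw [incl_lawFun, (γ.mult S₁).2, ← incl_lawFun γ b S₁ x₁, ← incl_lawFun γ b S₁ y₁]
    rw [PolLaw.lTensor_algHom_apply, PolLaw.lTensor_algHom_apply, PolLaw.lTensor_algHom_apply, map_mul]
  have h := congrArg (ψ.toLinearMap.rTensor (coefAlg γ b)) key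
  rw [lawFun_compat, PolLaw.rTensor_algHom_apply ψ (x₁ * y₁), map_mul,
    PolLaw.rTensor_algHom_apply (B := coefAlg γ b) ψ (_ * _), map_mul, ← PolLaw.rTensor_algHom_apply,
    ← PolLaw.rTensor_algHom_apply, ← PolLaw.rTensor_algHom_apply, ← PolLaw.rTensor_algHom_apply,
    lawFun_compat, lawFun_compat, hx, hy] at h
  exact h

theorem lawFun_one (S : Type u) [CommSemiring S] [Algebra R S] : lawFun γ b S 1 = 1 := by
  have key : lawFun γ b (MvPolynomial ι R) 1 = 1 := by
    apply incl_injective γ b ι
    rw [incl_lawFun, (γ.mult _).1, PolLaw.lTensor_algHom_apply, map_one]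
  let ψ : MvPolynomial ι R →ₐ[R] S := MvPolynomial.aeval fun _ => 0
  have h := congrArg (ψ.toLinearMap.rTensor (coefAlg γ b)) key
  rw [lawFun_compat] at h
  rw [PolLaw.rTensor_algHom_apply, map_one, PolLaw.rTensor_algHom_apply, map_one] at h
  exact h

theorem lawFun_smul (S : Type u) [CommSemiring S] [Algebra R S] (s : S) (x : S ⊗[R] B) :
    lawFun γ b S (s • x) = s ^ d • lawFun γ b S x := by
  let S₁ := MvPolynomial (Option ι) R
  let x₁ : S₁ ⊗[R] B := gen b S₁ fun i => MvPolynomial.X (some i)
  let ψ : S₁ →ₐ[R] S := MvPolynomial.aeval fun o => o.elim s (coords b x)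
  have hx : ψ.toLinearMap.rTensor B x₁ = x := by
    rw [map_gen]
    exact (congrArg (gen b S) (funext fun i => MvPolynomial.aeval_X _ _)).trans (gen_coords b x)
  have hs : ψ (MvPolynomial.X none) = s := MvPolynomial.aeval_X _ _
  have key : lawFun γ b S₁ ((MvPolynomial.X none : S₁) • x₁)
      = (MvPolynomial.X none : S₁) ^ d • lawFun γ b S₁ x₁ := by
    apply incl_injective γ b (Option ι)
    rw [incl_lawFun, γ.homog S₁, ← incl_lawFun γ b S₁ x₁]
    rw [PolLaw.lTensor_algHom_apply, PolLaw.lTensor_algHom_apply, map_smul]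
  have h := congrArg (ψ.toLinearMap.rTensor (coefAlg γ b)) key
  rw [lawFun_compat, rTensor_smul, rTensor_smul, lawFun_compat, map_pow, hs, hx] at h
  exact h

/-- the restricted law -/
noncomputable def restrictLaw : PolLaw.MulLaw R B (coefAlg γ b) d where
  law :=
  { toFun' := fun S _ _ => lawFun γ b S
    isCompat' := fun φ => funext (lawFun_compat γ b φ) }
  homog S _ _ s x := lawFun_smul γ b S s x
  mult S _ _ := ⟨lawFun_one γ b S, lawFun_mul γ b S⟩

theorem coefAlg_eq_top (hγ : PolLaw.IsGammaD γ) : coefAlg γ b = ⊤ := by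
  obtain ⟨f, hf, -⟩ := hγ (coefAlg γ b) (restrictLaw γ b)
  have h1 : (coefAlg γ b).val.comp f = AlgHom.id R C := by
    refine (hγ C γ).unique ?_ ?_
    · refine PolynomialLaw.ext ?_
      funext S _ _ x
      show ((coefAlg γ b).val.comp f).toLinearMap.lTensor S (γ.law.toFun' S x) = γ.law.toFun' S x
      have h := congrArg (fun L : B →ₚₗ[R] coefAlg γ b => L.toFun' S x) hf
      change f.toLinearMap.lTensor S (γ.law.toFun' S x) = lawFun γ b S x at h
      rw [AlgHom.comp_toLinearMap, LinearMap.lTensor_comp, LinearMap.comp_apply, h, incl_lawFun]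
    · refine PolynomialLaw.ext ?_
      funext S _ _ x
      show (AlgHom.id R C).toLinearMap.lTensor S (γ.law.toFun' S x) = γ.law.toFun' S x
      rw [AlgHom.toLinearMap_id, LinearMap.lTensor_id, LinearMap.id_apply]
  rw [eq_top_iff]
  intro c _
  rw [show c = (coefAlg γ b).val (f c) from (DFunLike.congr_fun h1 c).symm]
  exact (f c).2

end Law

end Groth.Agent.SymTenDet
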